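import Groth.Agent.CurveDualLib.DualField
import Groth.Agent.GenusZeroLib.Embed
import Groth.Agent.GenusZeroLib.PointDown
import Groth.Agent.GenusZeroLib.Pencil
import Groth.Agent.VBP1Lib.Twist
import Groth.Agent.AVAmpleLib.MulFinite
import Groth.Agent.AVAmpleLib.Degree
import Groth.Agent.DegPullLib.Rank
import Groth.Agent.S1530
import Groth.Agent.S1564
import Groth.Agent.S7640
import Groth.Agent.S8191

/-!
# The canonical pencil of a curve of genus two
-/

set_option autoImplicit false
universe u

open CategoryTheory CategoryTheory.Limits AlgebraicGeometry TopologicalSpace Opposite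
open AmpleLib (GenAt GenOn res)
open TwistLib (genSet)

noncomputable section

namespace Genus2Lib

variable {k : Type u} [Field k] {X : Scheme.{u}} [X.Over (Spec (CommRingCat.of k))]
  [IsProper (X ↘ Spec (CommRingCat.of k))] [IsIntegral X] (hdim : topologicalKrullDim X = 1)
  [Smooth (X ↘ Spec (CommRingCat.of k))]
  (h0 : Module.finrank k (Coh.HH X (Coh.structureModule X) 0) = 1) (hg : 0 < Curv2.genus k X)
  {M : X.Modules} (hM : PicF.IsInvertible M) (hdeg : Curv2.deg k X M 1 = 2)

include hdim h0 hg hdeg in
/-- A pencil of degree two on a curve of positive genus has no base point. -/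
theorem exists_basis_gen (h2 : Module.finrank k (Coh.HH X M 0) = 2) :
    ∃ v : Fin (1 + 1) → Γ(M, ⊤), ∀ y : X, ∃ i, y ∈ genSet hM (v i) := by
  letI := GenusZeroLib.kmod k M
  haveI := CurvLib.finite_HH (k := k) (CurvLib.isCoh_of_isInvertible hM) 0
  haveI : Module.Finite k Γ(M, ⊤) := Module.Finite.equiv (GenusZeroLib.e0k k M)
  have hr : Module.finrank k Γ(M, ⊤) = 1 + 1 := by
    rw [← (GenusZeroLib.e0k k M).finrank_eq, h2]
  let b := Module.finBasisOfFinrankEq k Γ(M, ⊤) hr
  refine ⟨b, ?_⟩
  by_contra hne
  push Not at hne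
  haveI := CurvLib.isNoetherian k (X := X)
  let Z : Set X := {y | ∀ i, y ∉ genSet hM (b i)}
  have hZc : IsClosed Z := by
    have hZ : Z = ⋂ i, ((genSet hM (b i) : X.Opens) : Set X)ᶜ := by ext y; simp [Z]
    rw [hZ]
    exact isClosed_iInter fun i => (genSet hM (b i)).2.isClosed_compl
  obtain ⟨x, hxZ, hx⟩ := hZc.exists_closed_singleton hne
  haveI := GenusZeroLib.isDiscreteValuationRing_stalk k hdim hx
    (haveI := CurveVBLib.regular_stalk (k := k) x; NormalLib.isIntegrallyClosed_of_isRegularLocalRing _)
  obtain ⟨L, q, hL, hq, hdL, hrange⟩ := GenusZeroLib.exists_twist_down (k := k) hdim hx hM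
  letI := GenusZeroLib.kmod k L
  let f : Γ(L, ⊤) →ₗ[k] Γ(M, ⊤) :=
    { toFun := fun t => q.app ⊤ t
      map_add' := fun a c => map_add (q.app ⊤).hom a c
      map_smul' := fun c t => Scheme.Modules.Hom.app_smul q (GenusZeroLib.ρ k (X := X) c) t }
  haveI : Mono q := CurvLib.mono_of_ne_zero hL hM hq
  have hf : Function.Injective f := QCohLib.app_injective_of_mono q ⊤
  have hb : ∀ i, b i ∈ LinearMap.range f := fun i => by
    obtain ⟨t, ht⟩ := (hrange ⊤ (b i)).mpr fun _ => hxZ i
    exact ⟨t, ht⟩
  have htop : LinearMap.range f = ⊤ :=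
    eq_top_iff.mpr (b.span_eq.ge.trans (Submodule.span_le.mpr (by rintro _ ⟨i, rfl⟩; exact hb i)))
  have hL2 : Module.finrank k (Coh.HH X L 0) = 2 := by
    rw [(GenusZeroLib.e0k k L).finrank_eq, (LinearEquiv.ofBijective f ⟨hf, LinearMap.range_eq_top.mp htop⟩).finrank_eq, hr]
  haveI : Nontrivial (Coh.HH X L 0) := Module.nontrivial_of_finrank_pos (R := k) (by omega)
  letI : Algebra k (X.residueField x) := Curv2.resAlgebra k X x
  have hle := (Groth.Agent.S1564.result k X hdim h0 L hL inferInstance)
  rw [hL2, hdL, hdeg] at hle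
  have hd : 0 < Module.finrank k (X.residueField x) := by
    by_contra h
    rw [hdeg, show Module.finrank k (X.residueField x) = 0 by omega] at hdL
    haveI : IsIso q := CurvLib.isIso_of_euler_le (k := k) hL hM hdim hq (by
      simp only [Curv2.deg] at hdL hdeg; push_cast at hdL hdeg ⊢; omega)
    obtain ⟨W, e, hxW, he⟩ := TwistLib.exists_genOn hM x
    exact (hrange W e).mp ⟨(inv q).app W e, by
      rw [← ConcreteCategory.comp_apply, ← Scheme.Modules.Hom.comp_app, IsIso.inv_hom_id]; rfl⟩ hxW (he.genAt hxW)
  have hd1 : Module.finrank k (X.residueField x) = 1 := by omega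
  rw [hdeg, hd1] at hdL
  have := hle.2 (by rw [hd1]; norm_num) (by rw [hd1]; norm_num)
  omega

omit [Smooth (X ↘ Spec (CommRingCat.of k))] in
include hdim hdeg in
/-- A morphism to the line pulling `O(1)` back to a module of degree two is finite flat of degree two. -/
theorem degree_two (r : X ⟶ CohB1.ProjSpace 1 k)
    (hr : r ≫ (CohB1.ProjSpace 1 k ↘ Spec (CommRingCat.of k)) = X ↘ Spec (CommRingCat.of k))
    (e : (Scheme.Modules.pullback r).obj (Twist.twistProjSpace 1 k 1) ≅ M) :
    IsFinite r ∧ Flat r ∧ r (genericPoint X) = genericPoint (CohB1.ProjSpace 1 k) ∧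
      r.residueDegree (genericPoint X) = 2 ∧ ∀ y, Scheme.Hom.finrank r y = 2 := by
  let P := CohB1.ProjSpace 1 k
  haveI : IsIntegral P := VBP1Lib.isIntegral_line k
  haveI : IsProper (P ↘ Spec (CommRingCat.of k)) := VBP1Lib.isProper_over k
  haveI := CurvLib.isNoetherian k (X := X)
  haveI := CurvLib.isNoetherian k (X := P)
  haveI : IsProper (r ≫ (P ↘ Spec (CommRingCat.of k))) := by rw [hr]; infer_instance
  haveI : IsProper r := IsProper.of_comp r (P ↘ Spec (CommRingCat.of k))
  have hO1 := VBP1Lib.twist_inv k 1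
  have hpb := AmpleDevLib.isInvertible_pb r hO1
  have hamp : CohB1.IsAmple ((Scheme.Modules.pullback r).obj (Twist.twistProjSpace 1 k 1)) :=
    (Groth.Agent.S1530.result k X hdim _ hpb).mpr (by rw [CurvLib.deg_congr (k := k) e, hdeg]; norm_num)
  haveI : IsFinite r := AVAmpleLib.isFinite_of_isAmple_pullback r hO1 hamp
  have hgen : r (genericPoint X) = genericPoint P := by
    by_contra hne
    have hy : IsClosed ({r (genericPoint X)} : Set P) :=
      CurveDualLib.isClosed_of_ne_generic (k := k) (VBP1Lib.dim_line k) hne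
    have hall : ∀ z : X, r z = r (genericPoint X) := fun z => Set.mem_singleton_iff.mp
      ((((genericPoint_spec X).specializes trivial).map r.continuous).mem_closed hy (Set.mem_singleton _))
    obtain ⟨U, σ, hyU, hσ⟩ := TwistLib.exists_genOn hO1 (r (genericPoint X))
    have htop : r ⁻¹ᵁ U = ⊤ := eq_top_iff.mpr fun z _ => show r z ∈ U from (hall z).symm ▸ hyU
    have hg : GenOn ((Scheme.Modules.pullback r).obj (Twist.twistProjSpace 1 k 1)) (KFlatLib.puSec r σ) :=
      TwistLib.genOn_of_genAt fun z hz => TwistLib.GenAt.puSec r (hσ.genAt hz)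
    let σ' : Γ((Scheme.Modules.pullback r).obj (Twist.twistProjSpace 1 k 1), ⊤) :=
      res _ (htop.ge) (KFlatLib.puSec r σ)
    have := AmpleLib.isIso_unitHom σ' (hg.res _)
    have hd := CurvLib.deg_congr (k := k) (@asIso _ _ _ _ _ this) 1
    rw [CurvLib.deg_congr (k := k) e, hdeg, Curv2.deg, Nat.cast_one, one_mul, sub_self] at hd
    exact absurd hd (by norm_num)
  haveI : Surjective r := ⟨fun y => by
    have hd : DenseRange r := by
      refine dense_iff_closure_eq.mpr (Set.eq_univ_iff_forall.mpr fun z => ?_)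
      have h1 : genericPoint P ∈ closure (Set.range r) := subset_closure ⟨_, hgen⟩
      exact ((genericPoint_spec P).specializes trivial).mem_closed isClosed_closure h1
    have : Set.range r = Set.univ := by
      rw [← r.isClosedMap.isClosed_range.closure_eq, dense_iff_closure_eq.mp hd]
    exact this.ge (Set.mem_univ y)⟩
  have hn : Pi1.IsNormalScheme P := fun x => by
    haveI := CurveVBLib.regular_stalk (k := k) x
    exact ⟨inferInstance, NormalLib.isIntegrallyClosed_of_isRegularLocalRing _⟩
  haveI : Flat r := Groth.Agent.S8191.result r hn (VBP1Lib.dim_line k)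
  have hres : r.residueDegree (genericPoint X) = 2 := by
    have h := Groth.Agent.S7640.result k X P hdim (VBP1Lib.dim_line k) r hr hgen 1 (Twist.twistProjSpace 1 k 1)
      (CurvLib.locFree_of_isInvertible hO1)
    rw [CurvLib.deg_congr (k := k) e, hdeg, VBP1Lib.deg_twist, mul_one] at h
    exact_mod_cast h.symm
  have hfib : ∀ z, r z = r (genericPoint X) → z = genericPoint X := fun z hz => by
    by_contra hne
    have h1 := r.isClosedMap _ (CurveDualLib.isClosed_of_ne_generic (k := k) hdim hne)
    rw [Set.image_singleton, hz, hgen] at h1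
    have hall : ∀ c : P, c = genericPoint P := fun c =>
      Set.mem_singleton_iff.mp (((genericPoint_spec P).specializes trivial).mem_closed h1 (Set.mem_singleton _))
    haveI : Subsingleton P := ⟨fun a b => (hall a).trans (hall b).symm⟩
    have h0 := topologicalKrullDim_zero_of_discreteTopology P
    rw [VBP1Lib.dim_line k] at h0
    exact absurd h0 (by simp)
  refine ⟨inferInstance, inferInstance, hgen, hres, fun y => ?_⟩
  haveI : LocallyOfFinitePresentation r := inferInstance
  rw [(Scheme.Hom.isLocallyConstant_finrank r).apply_eq_of_preconnectedSpace y (genericPoint P),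
    ← AVAmpleLib.genRank_push_structure r, CurvLib.genRank]
  exact (DegPullLib.finrank_stalk_push r r.isClosedMap CurvLib.isInvertible_structureModule hfib _ hgen rfl).trans hres

end Genus2Lib
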