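import Groth.Agent.Genus2Lib.Basic
import Groth.Agent.CurveFFLib.Main
import Groth.Agent.GeomRedFieldLib.Generic

/-!
# Separability of pencils of degree two on curves of positive genus
-/

set_option autoImplicit false
universe u

open CategoryTheory CategoryTheory.Limits AlgebraicGeometry

noncomputable section

namespace Genus2Lib

section

attribute [local instance] VeryAmpleLib.bcOver

/-- The base field, as a target of Frobenius. -/
abbrev FrTarget (k : Type u) : Type u := k

/-- The genus of a Frobenius twist. -/
theorem genus_twist (k : Type u) [Field k] (p : ℕ) [Fact p.Prime] [ExpChar k p] (X : Scheme.{u})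
    [X.Over (Spec (CommRingCat.of k))] [IsProper (X ↘ Spec (CommRingCat.of k))] (r : ℕ) :
    @Curv2.genus k _ (CurveFFLib.twist k p X r) ⟨CurveFFLib.twistHom k p X r⟩ = Curv2.genus k X :=
  @VeryAmpleLib.genus_bc k _ X _ k _ (iterateFrobenius k p r).toAlgebra inferInstance

/-- A purely inseparable cover of the line has genus zero. -/
theorem genus_eq_zero_of_purelyInseparable (k : Type u) [Field k] (p : ℕ) [Fact p.Prime] [ExpChar k p]
    (X : Scheme.{u}) [X.Over (Spec (CommRingCat.of k))] [IsProper (X ↘ Spec (CommRingCat.of k))]
    [Smooth (X ↘ Spec (CommRingCat.of k))] [IsIntegral X] (hdim : topologicalKrullDim X = 1)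
    (f : X ⟶ CohB1.ProjSpace 1 k)
    (hf : f ≫ (CohB1.ProjSpace 1 k ↘ Spec (CommRingCat.of k)) = X ↘ Spec (CommRingCat.of k))
    [IsIntegral (CohB1.ProjSpace 1 k)] (e : f (genericPoint X) = genericPoint (CohB1.ProjSpace 1 k))
    (hpi : letI := (((CohB1.ProjSpace 1 k).presheaf.stalkSpecializes (specializes_of_eq e) ≫
      f.stalkMap (genericPoint X)).hom).toAlgebra
      IsPurelyInseparable (CohB1.ProjSpace 1 k).functionField X.functionField) :
    Curv2.genus k X = 0 := by
  haveI : IsProper (CohB1.ProjSpace 1 k ↘ Spec (CommRingCat.of k)) := VBP1Lib.isProper_over k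
  have hn : Pi1.IsNormalScheme (CohB1.ProjSpace 1 k) := fun x => by
    haveI := CurveVBLib.regular_stalk (k := k) x
    exact ⟨inferInstance, NormalLib.isIntegrallyClosed_of_isRegularLocalRing _⟩
  obtain ⟨r, i, hi⟩ := CurveFFLib.exists_iso_twist p hdim (VBP1Lib.dim_line k).le hn f hf e hpi
  letI : (CurveFFLib.twist k p X r).Over (Spec (CommRingCat.of k)) := ⟨CurveFFLib.twistHom k p X r⟩
  rw [← genus_twist k p X r]
  have := GenusZeroLib.subsingleton_h1_of_iso (k := k) i.symm
  exact Module.finrank_zero_of_subsingleton

end


/-- Separability of function fields, read on residue fields of generic points. -/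
theorem isSeparable_residueField {X P : Scheme.{u}} [IsIntegral X] [IsIntegral P] (r : X ⟶ P)
    (hgen : r (genericPoint X) = genericPoint P)
    (h : letI := ((P.presheaf.stalkSpecializes (specializes_of_eq hgen) ≫ r.stalkMap (genericPoint X)).hom).toAlgebra
      Algebra.IsSeparable P.functionField X.functionField) :
    letI := (r.residueFieldMap (genericPoint X)).hom.toAlgebra
    Algebra.IsSeparable (P.residueField (r (genericPoint X))) (X.residueField (genericPoint X)) := by
  letI := ((P.presheaf.stalkSpecializes (specializes_of_eq hgen) ≫ r.stalkMap (genericPoint X)).hom).toAlgebra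
  haveI := h
  letI := (r.residueFieldMap (genericPoint X)).hom.toAlgebra
  letI := (GeomRedFieldLib.isField_stalk_generic (Y := X) (y := genericPoint X) rfl).toField
  have hY : IsField (P.presheaf.stalk (r (genericPoint X))) := GeomRedFieldLib.isField_stalk_generic hgen
  letI := hY.toField
  let i : P.functionField ≃+* P.residueField (r (genericPoint X)) :=
    RingEquiv.ofBijective ((P.residue _).hom.comp (P.presheaf.stalkSpecializes (specializes_of_eq hgen)).hom)
      ⟨RingHom.injective _, (P.residue_surjective _).comp (fun z => ⟨P.presheaf.stalkSpecializes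
        (specializes_of_eq hgen.symm) z, by
          rw [← ConcreteCategory.comp_apply, TopCat.Presheaf.stalkSpecializes_comp, TopCat.Presheaf.stalkSpecializes_refl]
          rfl⟩)⟩
  let j : X.functionField ≃+* X.residueField (genericPoint X) :=
    RingEquiv.ofBijective (X.residue _).hom ⟨RingHom.injective _, X.residue_surjective _⟩
  refine Algebra.IsSeparable.of_equiv_equiv i j (RingHom.ext fun z => ?_)
  exact congrArg (fun g : P.presheaf.stalk (r (genericPoint X)) ⟶ X.residueField (genericPoint X) =>
    g (P.presheaf.stalkSpecializes (specializes_of_eq hgen) z)) (Scheme.residue_residueFieldMap r (genericPoint X))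

/-- A morphism of degree two from a curve of positive genus to the line is separable. -/
theorem isSeparable_of_degree_two {k : Type u} [Field k] {X : Scheme.{u}} [X.Over (Spec (CommRingCat.of k))]
    [IsProper (X ↘ Spec (CommRingCat.of k))] [Smooth (X ↘ Spec (CommRingCat.of k))] [IsIntegral X]
    (hdim : topologicalKrullDim X = 1) (hg : 0 < Curv2.genus k X) (r : X ⟶ CohB1.ProjSpace 1 k)
    (hr : r ≫ (CohB1.ProjSpace 1 k ↘ Spec (CommRingCat.of k)) = X ↘ Spec (CommRingCat.of k))
    [IsIntegral (CohB1.ProjSpace 1 k)] (hgen : r (genericPoint X) = genericPoint (CohB1.ProjSpace 1 k))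
    (hres : r.residueDegree (genericPoint X) = 2) :
    letI := (r.residueFieldMap (genericPoint X)).hom.toAlgebra
    Algebra.IsSeparable ((CohB1.ProjSpace 1 k).residueField (r (genericPoint X))) (X.residueField (genericPoint X)) := by
  let P := CohB1.ProjSpace 1 k
  letI algK := ((P.presheaf.stalkSpecializes (specializes_of_eq hgen) ≫ r.stalkMap (genericPoint X)).hom).toAlgebra
  have h2 : Module.finrank P.functionField X.functionField = 2 := by
    rw [← hres, Scheme.Hom.residueDegree]
    letI := (r.residueFieldMap (genericPoint X)).hom.toAlgebra
    letI := (GeomRedFieldLib.isField_stalk_generic (Y := X) (y := genericPoint X) rfl).toField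
    have hY : IsField (P.presheaf.stalk (r (genericPoint X))) := GeomRedFieldLib.isField_stalk_generic hgen
    letI := hY.toField
    let i : P.functionField ≃+* P.residueField (r (genericPoint X)) :=
      RingEquiv.ofBijective ((P.residue _).hom.comp (P.presheaf.stalkSpecializes (specializes_of_eq hgen)).hom)
        ⟨RingHom.injective _, (P.residue_surjective _).comp (fun z => ⟨P.presheaf.stalkSpecializes
          (specializes_of_eq hgen.symm) z, by
            rw [← ConcreteCategory.comp_apply, TopCat.Presheaf.stalkSpecializes_comp, TopCat.Presheaf.stalkSpecializes_refl]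
            rfl⟩)⟩
    let j : X.functionField ≃+* X.residueField (genericPoint X) :=
      RingEquiv.ofBijective (X.residue _).hom ⟨RingHom.injective _, X.residue_surjective _⟩
    refine Algebra.finrank_eq_of_equiv_equiv i j (RingHom.ext fun z => ?_)
    exact congrArg (fun g : P.presheaf.stalk (r (genericPoint X)) ⟶ X.residueField (genericPoint X) =>
      g (P.presheaf.stalkSpecializes (specializes_of_eq hgen) z)) (Scheme.residue_residueFieldMap r (genericPoint X))
  haveI : FiniteDimensional P.functionField X.functionField := Module.finite_of_finrank_eq_succ h2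
  let S := separableClosure P.functionField X.functionField
  have hdvd : Module.finrank P.functionField S ∣ 2 := h2 ▸ ⟨_, (Module.finrank_mul_finrank P.functionField S X.functionField).symm⟩
  rcases (Nat.dvd_prime Nat.prime_two).mp hdvd with h | h
  · exfalso
    haveI : IsPurelyInseparable P.functionField X.functionField :=
      separableClosure.eq_bot_iff.mp (IntermediateField.finrank_eq_one_iff.mp h)
    rcases ExpChar.exists k with ⟨q, hq⟩
    rcases hq with _ | hprime
    · letI : Algebra k P.functionField := Curv2.stalkAlgebra k P (genericPoint P)
      haveI : CharZero P.functionField := charZero_of_injective_algebraMap (algebraMap k P.functionField).injective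
      have := IsPurelyInseparable.surjective_algebraMap_of_isSeparable P.functionField X.functionField
      have h1 := (LinearEquiv.ofBijective (Algebra.linearMap P.functionField X.functionField)
        ⟨(algebraMap P.functionField X.functionField).injective, this⟩).finrank_eq
      rw [Module.finrank_self, h2] at h1
      omega
    · haveI := Fact.mk hprime
      have := genus_eq_zero_of_purelyInseparable k q X hdim r hr hgen ‹_›
      omega
  · haveI : Algebra.IsSeparable P.functionField X.functionField := (separableClosure.eq_top_iff _ _).mp (IntermediateField.eq_of_le_of_finrank_eq le_top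
      (h.trans (h2.symm.trans IntermediateField.finrank_top'.symm)))
    exact isSeparable_residueField r hgen ‹_›

end Genus2Lib
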