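import Groth.Agent.Genus2Lib.FuncField
import Groth.Agent.CurveDualLib.GenusField
import Groth.Agent.FFLib.HyperEq
import Groth.Agent.AVAmpleLib.Degree
import Groth.Agent.DegPullLib.Rank

/-!
# The affine chart of a double cover of the line
-/

set_option autoImplicit false
set_option linter.style.haveILetI false
universe u

open CategoryTheory CategoryTheory.Limits AlgebraicGeometry TopologicalSpace Opposite
open GradedCechLib (deh deh_X_self)

noncomputable section

namespace Genus2Lib

attribute [local instance] CurveDualLib.algFF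

variable {k : Type u} [Field k] [IsIntegral (CohB1.ProjSpace 1 k)] {X : Scheme.{u}} [X.Over (Spec (CommRingCat.of k))]
  [IsIntegral X] [Smooth (X ↘ Spec (CommRingCat.of k))] [IsProper (X ↘ Spec (CommRingCat.of k))]
  (hdim : topologicalKrullDim X = 1) (r : X ⟶ CohB1.ProjSpace 1 k)

include hdim in
/-- A finite morphism to the line is dominant. -/
theorem gen_to_gen [IsFinite r] : r (genericPoint X) = genericPoint (CohB1.ProjSpace 1 k) := by
  haveI : IsProper (CohB1.ProjSpace 1 k ↘ Spec (CommRingCat.of k)) := VBP1Lib.isProper_over k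
  by_contra hne
  have hy : IsClosed ({r (genericPoint X)} : Set (CohB1.ProjSpace 1 k)) :=
    CurveDualLib.isClosed_of_ne_generic (k := k) (VBP1Lib.dim_line k) hne
  have hall : ∀ z : X, r z = r (genericPoint X) := fun z => Set.mem_singleton_iff.mp
    ((((genericPoint_spec X).specializes trivial).map r.continuous).mem_closed hy (Set.mem_singleton _))
  haveI : DiscreteTopology X := by
    refine isDiscrete_univ_iff.mp ?_
    rw [show (Set.univ : Set X) = r ⁻¹' {r (genericPoint X)} from (Set.eq_univ_of_forall fun z => hall z).symm]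
    exact r.isDiscrete_preimage_singleton _
  haveI : Subsingleton X := ⟨fun a b =>
    (((genericPoint_spec X).specializes (trivial : a ∈ Set.univ)).eq).symm.trans
      ((genericPoint_spec X).specializes (trivial : b ∈ Set.univ)).eq⟩
  have h0 := topologicalKrullDim_zero_of_discreteTopology X
  rw [hdim] at h0
  exact absurd h0 (by simp)

include hdim in
/-- The degree is the residue degree at the generic point. -/
theorem residueDegree_eq_finrank [IsFinite r] [Flat r] :
    r.residueDegree (genericPoint X) = Scheme.Hom.finrank r (genericPoint (CohB1.ProjSpace 1 k)) := by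
  haveI : IsProper (CohB1.ProjSpace 1 k ↘ Spec (CommRingCat.of k)) := VBP1Lib.isProper_over k
  haveI := CurvLib.isNoetherian k (X := X)
  haveI := CurvLib.isNoetherian k (X := CohB1.ProjSpace 1 k)
  have hgen := gen_to_gen hdim r
  have hfib : ∀ z, r z = r (genericPoint X) → z = genericPoint X := fun z hz => by
    by_contra hne
    have h1 := r.isClosedMap _ (CurveDualLib.isClosed_of_ne_generic (k := k) hdim hne)
    rw [Set.image_singleton, hz, hgen] at h1
    have hall : ∀ c : CohB1.ProjSpace 1 k, c = genericPoint (CohB1.ProjSpace 1 k) := fun c =>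
      Set.mem_singleton_iff.mp (((genericPoint_spec _).specializes trivial).mem_closed h1 (Set.mem_singleton _))
    haveI : Subsingleton (CohB1.ProjSpace 1 k) := ⟨fun a b => (hall a).trans (hall b).symm⟩
    have h0 := topologicalKrullDim_zero_of_discreteTopology (CohB1.ProjSpace 1 k)
    rw [VBP1Lib.dim_line k] at h0
    exact absurd h0 (by simp)
  rw [← AVAmpleLib.genRank_push_structure r, CurvLib.genRank]
  exact (DegPullLib.finrank_stalk_push r r.isClosedMap CurvLib.isInvertible_structureModule hfib _ hgen rfl).symm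

variable (hr : r ≫ (CohB1.ProjSpace 1 k ↘ Spec (CommRingCat.of k)) = X ↘ Spec (CommRingCat.of k))
  (hgen : r (genericPoint X) = genericPoint (CohB1.ProjSpace 1 k))

/-- The preimage of the first chart. -/
abbrev chart₀ : X.Opens := r ⁻¹ᵁ QCohLib.stdOpen 1 k 0

omit [Smooth (X ↘ Spec (CommRingCat.of k))] [IsProper (X ↘ Spec (CommRingCat.of k))] [X.Over (Spec (CommRingCat.of k))] in
include hgen in
/-- The generic point lies in the chart. -/
theorem genericPoint_mem_chart₀ : genericPoint X ∈ chart₀ r := by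
  show r (genericPoint X) ∈ QCohLib.stdOpen 1 k 0
  rw [hgen]
  exact genericPoint_mem_stdOpen 0

/-- Functions on the chart, as rational functions. -/
def chartToFF (h : genericPoint X ∈ chart₀ r) : Γ(X, chart₀ r) →+* X.functionField :=
  (X.presheaf.germ (chart₀ r) (genericPoint X) h).hom

omit [Smooth (X ↘ Spec (CommRingCat.of k))] [IsProper (X ↘ Spec (CommRingCat.of k))] [X.Over (Spec (CommRingCat.of k))] in
/-- The coordinate on the chart. -/
theorem chartToFF_coord (h : genericPoint X ∈ chart₀ r) :
    chartToFF r h (r.app (QCohLib.stdOpen 1 k 0) (deh 1 k 0 (MvPolynomial.X 1))) =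
      pullFF r hgen (coord (genericPoint_mem_stdOpen (k := k) 0)) := by
  show X.presheaf.germ (chart₀ r) (genericPoint X) h _ =
    r.stalkMap (genericPoint X) ((CohB1.ProjSpace 1 k).presheaf.stalkSpecializes (specializes_of_eq hgen)
      ((CohB1.ProjSpace 1 k).presheaf.germ (QCohLib.stdOpen 1 k 0) _ _ _))
  rw [TopCat.Presheaf.germ_stalkSpecializes_apply]
  exact (Scheme.Hom.germ_stalkMap_apply r (QCohLib.stdOpen 1 k 0) (genericPoint X) h _).symm

include hdim hgen in
/-- A place is finite on the coordinate exactly when it lies over the chart. -/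
theorem mem_chart₀_iff {x : X} (hx : IsClosed ({x} : Set X)) :
    x ∈ chart₀ r ↔ (CurveDualLib.ptPlace (k := k) hdim hx).1 (pullFF r hgen (coord (genericPoint_mem_stdOpen (k := k) 0))) ≤ 1 := by
  have hη := genericPoint_mem_chart₀ r hgen
  rw [CurveDualLib.ptPlace_val, CurveDualLib.ptVal_le_one_iff]
  constructor
  · intro hxU
    refine ⟨X.presheaf.germ (chart₀ r) x hxU (r.app (QCohLib.stdOpen 1 k 0) (deh 1 k 0 (MvPolynomial.X 1))), ?_⟩
    rw [← chartToFF_coord r hgen hη]
    exact TopCat.Presheaf.germ_stalkSpecializes_apply X.presheaf hxU _ _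
  · rintro ⟨b, hb⟩
    by_contra hxU
    let P := CohB1.ProjSpace 1 k
    have hy1 : r x ∈ QCohLib.stdOpen 1 k 1 := by
      have h : r x ∈ ⨆ i, QCohLib.stdOpen 1 k i := by rw [QCohLib.iSup_stdOpen]; trivial
      obtain ⟨i, hi⟩ := Opens.mem_iSup.mp h
      fin_cases i
      · exact absurd hi hxU
      · exact hi
    have hη1 : genericPoint X ∈ r ⁻¹ᵁ QCohLib.stdOpen 1 k 1 := by
      show r (genericPoint X) ∈ QCohLib.stdOpen 1 k 1
      rw [hgen]
      exact genericPoint_mem_stdOpen 1
    let c : Γ(P, QCohLib.stdOpen 1 k 1) := deh 1 k 1 (MvPolynomial.X 0)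
    let a : X.presheaf.stalk x := r.stalkMap x (P.presheaf.germ _ (r x) hy1 c)
    have ha : algebraMap (X.presheaf.stalk x) X.functionField a *
        pullFF r hgen (coord (genericPoint_mem_stdOpen (k := k) 0)) = 1 := by
      have h1 : algebraMap (X.presheaf.stalk x) X.functionField a =
          r.stalkMap (genericPoint X) (P.presheaf.germ _ (r (genericPoint X)) hη1 c) := by
        show (X.presheaf.stalkSpecializes _) (r.stalkMap x (P.presheaf.germ _ (r x) hy1 c)) = _
        rw [Scheme.Hom.germ_stalkMap_apply, TopCat.Presheaf.germ_stalkSpecializes_apply, Scheme.Hom.germ_stalkMap_apply]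
      rw [h1]
      show r.stalkMap (genericPoint X) _ * r.stalkMap (genericPoint X) (P.presheaf.stalkSpecializes (specializes_of_eq hgen)
        (P.presheaf.germ (QCohLib.stdOpen 1 k 0) _ _ (deh 1 k 0 (MvPolynomial.X 1)))) = 1
      rw [TopCat.Presheaf.germ_stalkSpecializes_apply]
      refine (map_mul (r.stalkMap (genericPoint X)).hom _ _).symm.trans ?_
      refine Eq.trans (congrArg _ ?_) (map_one (r.stalkMap (genericPoint X)).hom)
      have hW : r (genericPoint X) ∈ QCohLib.stdOpen 1 k 0 ⊓ QCohLib.stdOpen 1 k 1 := ⟨hη, hη1⟩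
      rw [← TopCat.Presheaf.germ_res_apply P.presheaf (homOfLE inf_le_right) (r (genericPoint X)) hW c,
        ← TopCat.Presheaf.germ_res_apply P.presheaf (homOfLE inf_le_left) (r (genericPoint X)) hW
          (deh 1 k 0 (MvPolynomial.X 1))]
      refine (map_mul (P.presheaf.germ _ (r (genericPoint X)) hW).hom _ _).symm.trans ?_
      exact (congrArg _ (GradedCechLib.deh_X_inv 1 k 0 1 inf_le_left inf_le_right)).trans (map_one _)
    have hab : a * b = 1 := IsFractionRing.injective (X.presheaf.stalk x) X.functionField (by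
      rw [map_mul, map_one, hb]
      exact ha)
    have hu : IsUnit (P.presheaf.germ _ (r x) hy1 c) :=
      (isUnit_map_iff (r.stalkMap x).hom _).mp (IsUnit.of_mul_eq_one b hab)
    have hmem : r x ∈ P.basicOpen c := (Scheme.mem_basicOpen P c (r x) hy1).mpr hu
    rw [GradedCechLib.basicOpen_deh_X] at hmem
    exact hxU hmem.2

include hdim hgen in
/-- The functions on the chart are those integral at every finite place. -/
theorem mem_range_chartToFF_iff (h : genericPoint X ∈ chart₀ r) (z : X.functionField) :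
    z ∈ (chartToFF r h).range ↔ ∀ P : FunFld.Place k X.functionField,
      P.1 (pullFF r hgen (coord (genericPoint_mem_stdOpen (k := k) 0))) ≤ 1 → P.1 z ≤ 1 := by
  constructor
  · rintro ⟨s, rfl⟩ P hP
    obtain ⟨x, hx, rfl⟩ := CurveDualLib.exists_point (k := k) hdim P
    have hxU := (mem_chart₀_iff hdim r hgen hx).mpr hP
    rw [CurveDualLib.ptPlace_val, CurveDualLib.ptVal_le_one_iff]
    exact ⟨X.presheaf.germ (chart₀ r) x hxU s, TopCat.Presheaf.germ_stalkSpecializes_apply X.presheaf hxU _ _⟩
  · intro hz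
    let η := genericPoint X
    let ι := {p : Σ V : X.Opens, Γ(X, V) // p.1 ≤ chart₀ r ∧ ∃ h : η ∈ p.1, X.presheaf.germ p.1 η h p.2 = z}
    have hcov : ∀ x ∈ chart₀ r, ∃ p : ι, x ∈ p.1.1 := by
      intro x hxU
      obtain ⟨b, hb⟩ : ∃ b : X.presheaf.stalk x, algebraMap (X.presheaf.stalk x) X.functionField b = z := by
        by_cases hxη : x = η
        · subst hxη
          refine ⟨z, ?_⟩
          exact ConcreteCategory.congr_hom (TopCat.Presheaf.stalkSpecializes_refl X.presheaf η) z
        have hx := CurveDualLib.isClosed_of_ne_generic (k := k) hdim hxη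
        exact (CurveDualLib.ptVal_le_one_iff (k := k) hdim hx z).mp (hz _ ((mem_chart₀_iff hdim r hgen hx).mp hxU))
      obtain ⟨V, hxV, t, rfl⟩ := TopCat.Presheaf.exists_germ_eq X.presheaf (x := x) b
      have hW : x ∈ V ⊓ chart₀ r := ⟨hxV, hxU⟩
      refine ⟨⟨⟨V ⊓ chart₀ r, X.presheaf.map (homOfLE inf_le_left).op t⟩, inf_le_right,
        ((genericPoint_spec X).mem_open_set_iff (V ⊓ chart₀ r).isOpen).mpr ⟨x, trivial, hW⟩, ?_⟩, hW⟩
      rw [TopCat.Presheaf.germ_res_apply, ← hb]
      exact (TopCat.Presheaf.germ_stalkSpecializes_apply X.presheaf hxV _ _).symm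
    obtain ⟨s, hs, -⟩ := TopCat.Sheaf.existsUnique_gluing' X.sheaf (fun p : ι => p.1.1) (chart₀ r)
      (fun p => homOfLE p.2.1) (fun x hx => Opens.mem_iSup.mpr (hcov x hx)) (fun p => p.1.2)
      (fun p q => by
        have hW : η ∈ p.1.1 ⊓ q.1.1 := ⟨p.2.2.1, q.2.2.1⟩
        refine germ_injective_of_isIntegral X η hW ?_
        exact ((TopCat.Presheaf.germ_res_apply X.presheaf (Opens.infLELeft _ _) η hW _).trans p.2.2.2).trans
          ((TopCat.Presheaf.germ_res_apply X.presheaf (Opens.infLERight _ _) η hW _).trans q.2.2.2).symm)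
    obtain ⟨p, hp⟩ := hcov η h
    refine ⟨s, ?_⟩
    show X.presheaf.germ (chart₀ r) η h s = z
    rw [← TopCat.Presheaf.germ_res_apply X.presheaf (homOfLE p.2.1) η hp s]
    exact (congrArg (X.presheaf.germ p.1.1 η hp) (hs p)).trans p.2.2.2

/-- The constants on an open. -/
def cstU (U : X.Opens) : k →+* Γ(X, U) :=
  ((X ↘ Spec (CommRingCat.of k)).appLE ⊤ U le_top).hom.comp (Scheme.ΓSpecIso (CommRingCat.of k)).inv.hom

omit [IsIntegral (CohB1.ProjSpace 1 k)] [Smooth (X ↘ Spec (CommRingCat.of k))] [IsProper (X ↘ Spec (CommRingCat.of k))] in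
/-- Constants on the chart. -/
theorem chartToFF_cstU (h : genericPoint X ∈ chart₀ r) (c : k) :
    chartToFF r h (cstU _ c) = algebraMap k X.functionField c :=
  TopCat.Presheaf.germ_res_apply X.presheaf (homOfLE le_top) _ h _

include hdim hr hgen in
/-- The chart is a plane curve `Y² = A + B Y`. -/
theorem exists_chart_presentation (h0 : Module.finrank k (Coh.HH X (Coh.structureModule X) 0) = 1)
    (hres : r.residueDegree (genericPoint X) = 2) [IsFinite r] :
    ∃ (p q : Polynomial k), 2 * Curv2.genus k X + 1 ≤ max p.natDegree (2 * q.natDegree) ∧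
      max p.natDegree (2 * q.natDegree) ≤ 2 * Curv2.genus k X + 2 ∧
      ∃ e : (↑(chart₀ r) : Scheme.{u}) ≅
          Spec (CommRingCat.of (MvPolynomial (Fin 2) k ⧸ Ideal.span {MvPolynomial.X 1 ^ 2 +
            Polynomial.aeval (MvPolynomial.X 0) q * MvPolynomial.X 1 - Polynomial.aeval (MvPolynomial.X 0) p})),
        e.hom ≫ Spec.map (CommRingCat.ofHom ((Ideal.Quotient.mk (Ideal.span {MvPolynomial.X 1 ^ 2 +
          Polynomial.aeval (MvPolynomial.X 0) q * MvPolynomial.X 1 - Polynomial.aeval (MvPolynomial.X 0) p})).comp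
            (MvPolynomial.C : k →+* MvPolynomial (Fin 2) k))) = (chart₀ r).ι ≫ (X ↘ Spec (CommRingCat.of k)) := by
  classical
  have hη := genericPoint_mem_chart₀ r hgen
  obtain ⟨t, h2, -, ht⟩ := exists_coordinate r hr hgen hres
  have hK := CurveDualLib.isFunctionField' (k := k) hdim h0
  have htr : Transcendental k t := by
    refine Groth.Agent.FFLib.transcendental_of_notMem hK fun ⟨c, hc⟩ => ?_
    obtain ⟨x, hx, -⟩ := hK.1
    haveI := Module.finite_of_finrank_eq_succ h2
    haveI : Algebra.IsAlgebraic k (IntermediateField.adjoin k ({t} : Set X.functionField)) :=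
      IntermediateField.isAlgebraic_adjoin_simple (hc ▸ isIntegral_algebraMap)
    have : Algebra.IsAlgebraic k X.functionField :=
      Algebra.IsAlgebraic.trans k (IntermediateField.adjoin k ({t} : Set X.functionField)) X.functionField
    exact hx (this.isAlgebraic x)
  obtain ⟨y, hy, hym, hspan, hlow⟩ := Groth.Agent.FFLib.exists_second_generator hK htr h2
  obtain ⟨A, B, hA, hB, heq⟩ := hspan ((FunFld.genus k X.functionField + 1) + (FunFld.genus k X.functionField + 1)) (y ^ 2)
    (by rw [sq]; exact Groth.Agent.FFLib.mul_mem_L_pole hym hym)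
  rw [max_eq_left (Nat.le_add_left _ _)] at hA hB
  have hlo := Groth.Agent.FFLib.le_degree_equation hK htr h2 hy hlow heq
  rw [CurveDualLib.genus_eq' hdim h0] at hA hB hlo
  refine ⟨A, -B, by rw [Polynomial.natDegree_neg]; omega, by rw [Polynomial.natDegree_neg]; omega, ?_⟩
  -- the finite places
  have hfin : ∀ z : X.functionField, z ∈ (chartToFF r hη).range ↔ ∀ P : FunFld.Place k X.functionField, P.1 t ≤ 1 → P.1 z ≤ 1 :=
    fun z => ht.symm ▸ mem_range_chartToFF_iff hdim r hgen hη z
  have hpol : ∀ {n : ℕ} {z : X.functionField}, z ∈ FunFld.L (n • Groth.Agent.FFLib.pole (k := k) t) →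
      z ∈ (chartToFF r hη).range := fun {n z} hz => (hfin z).mpr fun P hP => by
    refine (hz P).trans (le_of_eq ?_)
    rw [Finsupp.smul_apply, Groth.Agent.FFLib.pole_apply hK.1,
      max_eq_right (by have := (Groth.Agent.FFLib.v_le_one_iff P t).mp hP; omega), smul_zero, WithZero.exp_zero]
  obtain ⟨yU, hyU⟩ := hpol hym
  obtain ⟨tU, htU⟩ : t ∈ (chartToFF r hη).range := ⟨_, (chartToFF_coord r hgen hη).trans ht.symm⟩
  let F : MvPolynomial (Fin 2) k := MvPolynomial.X 1 ^ 2 +
    Polynomial.aeval (MvPolynomial.X 0) (-B) * MvPolynomial.X 1 - Polynomial.aeval (MvPolynomial.X 0) A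
  let ψ : MvPolynomial (Fin 2) k →+* Γ(X, chart₀ r) := MvPolynomial.eval₂Hom (cstU _) ![tU, yU]
  let φ : MvPolynomial (Fin 2) k →ₐ[k] X.functionField := MvPolynomial.aeval ![t, y]
  have hψ : ∀ p, chartToFF r hη (ψ p) = φ p := fun p => by
    induction p using MvPolynomial.induction_on with
    | C c => rw [MvPolynomial.eval₂Hom_C, chartToFF_cstU, MvPolynomial.aeval_C]
    | add p q hp hq => rw [map_add, map_add, map_add, hp, hq]
    | mul_X p j hp =>
      rw [map_mul, map_mul, map_mul, hp, MvPolynomial.eval₂Hom_X', MvPolynomial.aeval_X]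
      fin_cases j
      · exact congrArg (φ p * ·) htU
      · exact congrArg (φ p * ·) hyU
  have hφ : ∀ a b : Polynomial k, φ (Polynomial.aeval (MvPolynomial.X 0) a + Polynomial.aeval (MvPolynomial.X 0) b * MvPolynomial.X 1) =
      Polynomial.aeval t a + Polynomial.aeval t b * y := fun a b => by
    simp only [φ, map_add, map_mul, ← Polynomial.aeval_algHom_apply, MvPolynomial.aeval_X, Matrix.cons_val_zero,
      Matrix.cons_val_one]
  have hFφ : φ F = 0 := by
    simp only [F, φ, map_sub, map_add, map_mul, map_pow, ← Polynomial.aeval_algHom_apply, MvPolynomial.aeval_X,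
      Matrix.cons_val_zero, Matrix.cons_val_one, map_neg]
    rw [heq]
    ring
  have hchinj : Function.Injective (chartToFF r hη) := germ_injective_of_isIntegral X (genericPoint X) hη
  have hnf : ∀ p : MvPolynomial (Fin 2) k, ∃ a b : Polynomial k,
      p - (Polynomial.aeval (MvPolynomial.X 0) a + Polynomial.aeval (MvPolynomial.X 0) b * MvPolynomial.X 1) ∈ Ideal.span {F} := by
    intro p
    induction p using MvPolynomial.induction_on with
    | C c => exact ⟨Polynomial.C c, 0, by simp⟩
    | add p q hp hq =>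
      obtain ⟨a, b, h⟩ := hp
      obtain ⟨a', b', h'⟩ := hq
      refine ⟨a + a', b + b', ?_⟩
      have := add_mem h h'
      simp only [map_add]
      convert this using 1
      ring
    | mul_X p j hp =>
      obtain ⟨a, b, h⟩ := hp
      fin_cases j
      · refine ⟨a * Polynomial.X, b * Polynomial.X, ?_⟩
        have := Ideal.mul_mem_right (MvPolynomial.X (0 : Fin 2)) _ h
        simp only [map_mul, Polynomial.aeval_X]
        convert this using 1
        show p * MvPolynomial.X (0 : Fin 2) - _ = _
        ring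
      · refine ⟨b * A, a + b * B, ?_⟩
        have := add_mem (Ideal.mul_mem_right (MvPolynomial.X (1 : Fin 2)) _ h)
          (Ideal.mul_mem_left _ (Polynomial.aeval (MvPolynomial.X (0 : Fin 2)) b) (Ideal.mem_span_singleton_self F))
        simp only [map_mul, map_add]
        convert this using 1
        show p * MvPolynomial.X (1 : Fin 2) - _ = _
        simp only [F, map_neg]
        ring
  have hsurj : Function.Surjective ψ := fun s => by
    let z := chartToFF r hη s
    have hz := (hfin z).mp ⟨s, rfl⟩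
    obtain ⟨n, hn⟩ : ∃ n : ℕ, z ∈ FunFld.L (n • Groth.Agent.FFLib.pole (k := k) t) := by
      let Dz := Groth.Agent.FFLib.pole (k := k) z
      refine ⟨(∑ P ∈ Dz.support, Dz P).toNat, fun P => (Groth.Agent.FFLib.mem_L_pole hK.1 z P).trans ?_⟩
      rw [WithZero.exp_le_exp, Finsupp.smul_apply, nsmul_eq_mul]
      change Dz P ≤ _
      have h0 : 0 ≤ Groth.Agent.FFLib.pole (k := k) t P := Groth.Agent.FFLib.pole_nonneg t P
      by_cases hP : P ∈ Dz.support
      · have hpos : 0 < Dz P := lt_of_le_of_ne (Groth.Agent.FFLib.pole_nonneg z P) (Ne.symm (Finsupp.mem_support_iff.mp hP))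
        have h1 : 1 ≤ Groth.Agent.FFLib.pole (k := k) t P := by
          have hz' : ¬ P.1 z ≤ 1 := fun h => by
            have := (Groth.Agent.FFLib.v_le_one_iff P z).mp h
            simp only [Dz, Groth.Agent.FFLib.pole_apply hK.1] at hpos
            omega
          have := (Groth.Agent.FFLib.one_lt_v_iff P t).mp (not_le.mp fun h => hz' (hz P h))
          rw [Groth.Agent.FFLib.pole_apply hK.1]
          omega
        have hle := Finset.single_le_sum (f := fun Q => Dz Q) (fun Q _ => Groth.Agent.FFLib.pole_nonneg z Q) hP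
        calc Dz P ≤ ∑ Q ∈ Dz.support, Dz Q := hle
          _ ≤ ((∑ Q ∈ Dz.support, Dz Q).toNat : ℤ) * 1 := by rw [mul_one]; exact Int.self_le_toNat _
          _ ≤ _ := mul_le_mul_of_nonneg_left h1 (Int.natCast_nonneg _)
      · rw [Finsupp.notMem_support_iff.mp hP]
        exact mul_nonneg (Int.natCast_nonneg _) h0
    obtain ⟨a, b, -, -, hab⟩ := hspan n z hn
    exact ⟨_, hchinj (((hψ _).trans (hφ a b)).trans hab.symm)⟩
  have hker : RingHom.ker ψ = Ideal.span {F} := by
    refine le_antisymm (fun p hp => ?_) (Ideal.span_le.mpr (Set.singleton_subset_iff.mpr ?_))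
    · obtain ⟨a, b, h⟩ := hnf p
      obtain ⟨c, hc⟩ := Ideal.mem_span_singleton.mp h
      have h0 : Polynomial.aeval t a + Polynomial.aeval t b * y = 0 := by
        have e := congrArg φ hc
        rw [map_sub, map_mul, hFφ, zero_mul, hφ, ← hψ p, RingHom.mem_ker.mp hp, map_zero, zero_sub, neg_eq_zero] at e
        exact e
      have hb0 : b = 0 := by
        by_contra hb0
        have hbt : Polynomial.aeval t b ≠ 0 := fun e => hb0 (Groth.Agent.FFLib.aeval_inj htr (by rw [e, map_zero]))
        refine hy ((IntermediateField.mem_adjoin_simple_iff k _).mpr ⟨-a, b, ?_⟩)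
        rw [map_neg, eq_div_iff hbt]
        linear_combination h0
      subst hb0
      rw [map_zero, zero_mul, add_zero] at h0
      obtain rfl : a = 0 := Groth.Agent.FFLib.aeval_inj htr (by rw [h0, map_zero])
      simpa using h
    · show F ∈ RingHom.ker ψ
      rw [RingHom.mem_ker]
      exact hchinj ((hψ F).trans (hFφ.trans (map_zero _).symm))
  let χ : (MvPolynomial (Fin 2) k ⧸ Ideal.span {F}) ≃+* Γ(X, chart₀ r) :=
    (Ideal.quotEquivOfEq hker.symm).trans (RingHom.quotientKerEquivOfSurjective hsurj)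
  have hU0 : IsAffineOpen (QCohLib.stdOpen 1 k 0) :=
    Proj.isAffineOpen_basicOpen _ _ (GradedCechLib.X_mem 1 k 0) one_pos
  have hU : IsAffineOpen (chart₀ r) := hU0.preimage r
  let e : (↑(chart₀ r) : Scheme.{u}) ≅ Spec (CommRingCat.of (MvPolynomial (Fin 2) k ⧸ Ideal.span {F})) :=
    hU.isoSpec ≪≫ Scheme.Spec.mapIso χ.toCommRingCatIso.op
  refine ⟨e, ?_⟩
  have hcomp : CommRingCat.ofHom ((Ideal.Quotient.mk (Ideal.span {F})).comp (MvPolynomial.C : k →+* MvPolynomial (Fin 2) k)) ≫
      χ.toCommRingCatIso.hom = CommRingCat.ofHom (cstU (chart₀ r)) := by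
    refine CommRingCat.hom_ext (RingHom.ext fun c => ?_)
    show χ (Ideal.Quotient.mk _ (MvPolynomial.C c)) = cstU (chart₀ r) c
    exact MvPolynomial.eval₂Hom_C _ _ c
  show (hU.isoSpec.hom ≫ Spec.map χ.toCommRingCatIso.hom) ≫ _ = _
  rw [Category.assoc, ← Spec.map_comp, hcomp, ← cancel_epi hU.isoSpec.inv, Iso.inv_hom_id_assoc,
    IsAffineOpen.isoSpec_inv_ι_assoc, ← IsAffineOpen.SpecMap_appLE_fromSpec (X ↘ Spec (CommRingCat.of k))
      (isAffineOpen_top _) hU le_top, fromSpec_top_Spec, ← Spec.map_comp]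
  rfl
where
  fromSpec_top_Spec : (isAffineOpen_top (Spec (CommRingCat.of k))).fromSpec =
      Spec.map (Scheme.ΓSpecIso (CommRingCat.of k)).inv := by
    rw [IsAffineOpen.fromSpec_top, Scheme.isoSpec_Spec_inv]

end Genus2Lib
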