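import Groth.Agent.GradedCechLib.Chart
import Groth.Agent.CurveDualLib.GenusField
import Groth.Agent.VBP1Lib.Twist

/-!
# The function field of a cover of the line
-/

set_option autoImplicit false
set_option linter.style.haveILetI false
universe u

open CategoryTheory CategoryTheory.Limits AlgebraicGeometry TopologicalSpace Opposite
open GradedCechLib (deh deh_surjective deh_X_self deh_C)

noncomputable section

namespace Genus2Lib

variable {k : Type u} [Field k]

attribute [local instance] CurveDualLib.algFF

/-- The coordinate on the line. -/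
def coord [IsIntegral (CohB1.ProjSpace 1 k)] (hne : genericPoint (CohB1.ProjSpace 1 k) ∈ QCohLib.stdOpen 1 k 0) :
    (CohB1.ProjSpace 1 k).functionField :=
  (CohB1.ProjSpace 1 k).presheaf.germ (QCohLib.stdOpen 1 k 0) _ hne (deh 1 k 0 (MvPolynomial.X 1))

variable [IsIntegral (CohB1.ProjSpace 1 k)]

/-- The first chart is not empty. -/
theorem genericPoint_mem_stdOpen (i : Fin 2) : genericPoint (CohB1.ProjSpace 1 k) ∈ QCohLib.stdOpen 1 k i := by
  refine ((genericPoint_spec (CohB1.ProjSpace 1 k)).mem_open_set_iff (QCohLib.stdOpen 1 k i).isOpen).mpr ?_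
  by_contra h
  have h1 : Subsingleton Γ((CohB1.ProjSpace 1 k), QCohLib.stdOpen 1 k i) := by
    haveI : IsEmpty (QCohLib.stdOpen 1 k i) := ⟨fun z => h ⟨z.1, trivial, z.2⟩⟩
    rw [show QCohLib.stdOpen 1 k i = ⊥ from eq_bot_iff.mpr fun z hz => (h ⟨z, trivial, hz⟩).elim]
    infer_instance
  obtain ⟨e, -⟩ := GradedCechLib.toSec_bijective 1 k i
  have h2 : Subsingleton (MvPolynomial (Fin 1) k) := by
    haveI : Subsingleton (HomogeneousLocalization.Away (CohB1.polyGrading 1 k) (MvPolynomial.X i : MvPolynomial (Fin 2) k)) :=
      e.subsingleton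
    exact (GenusZeroLib.chartPoly_bijective 1 k i).1.subsingleton
  exact not_subsingleton (MvPolynomial (Fin 1) k) h2

/-- The function field of the line is generated by the coordinate. -/
theorem adjoin_coord_eq_top :
    IntermediateField.adjoin k ({coord (genericPoint_mem_stdOpen (k := k) 0)} : Set (CohB1.ProjSpace 1 k).functionField) = ⊤ := by
  let η := genericPoint (CohB1.ProjSpace 1 k)
  let hne := genericPoint_mem_stdOpen (k := k) 0
  let F := IntermediateField.adjoin k ({coord hne} : Set (CohB1.ProjSpace 1 k).functionField)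
  have hA : IsAffineOpen (QCohLib.stdOpen 1 k 0) :=
    Proj.isAffineOpen_basicOpen _ _ (GradedCechLib.X_mem 1 k 0) one_pos
  haveI : Nonempty (QCohLib.stdOpen 1 k 0) := ⟨⟨η, hne⟩⟩
  haveI := functionField_isFractionRing_of_isAffineOpen (CohB1.ProjSpace 1 k) _ hA
  have hgerm : ∀ q : MvPolynomial (Fin 2) k, (CohB1.ProjSpace 1 k).presheaf.germ _ η hne (deh 1 k 0 q) ∈ F := by
    intro q
    induction q using MvPolynomial.induction_on with
    | C c =>
      rw [deh_C]
      have : (CohB1.ProjSpace 1 k).presheaf.germ _ η hne (GradedCechLib.cstOn 1 k (QCohLib.stdOpen 1 k 0) c) =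
          algebraMap k (CohB1.ProjSpace 1 k).functionField c :=
        TopCat.Presheaf.germ_res_apply (CohB1.ProjSpace 1 k).presheaf (homOfLE le_top) η hne _
      rw [this]
      exact F.algebraMap_mem c
    | add p q hp hq =>
      rw [map_add]
      exact (map_add ((CohB1.ProjSpace 1 k).presheaf.germ _ η hne).hom _ _).symm ▸ add_mem hp hq
    | mul_X p j hp =>
      rw [map_mul]
      refine (map_mul ((CohB1.ProjSpace 1 k).presheaf.germ _ η hne).hom _ _).symm ▸ mul_mem hp ?_
      fin_cases j
      · show (CohB1.ProjSpace 1 k).presheaf.germ _ η hne (deh 1 k 0 (MvPolynomial.X 0)) ∈ F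
        rw [deh_X_self]
        exact (map_one ((CohB1.ProjSpace 1 k).presheaf.germ _ η hne).hom).symm ▸ one_mem F
      · exact IntermediateField.mem_adjoin_simple_self k _
  refine eq_top_iff.mpr fun z _ => ?_
  obtain ⟨a, b, -, rfl⟩ := IsFractionRing.div_surjective (Γ((CohB1.ProjSpace 1 k), QCohLib.stdOpen 1 k 0)) z
  obtain ⟨p, rfl⟩ := deh_surjective 1 k 0 a
  obtain ⟨q, rfl⟩ := deh_surjective 1 k 0 b
  exact div_mem (hgerm p) (hgerm q)

variable {X : Scheme.{u}} [X.Over (Spec (CommRingCat.of k))] [IsIntegral X] (r : X ⟶ (CohB1.ProjSpace 1 k))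
  (hr : r ≫ ((CohB1.ProjSpace 1 k) ↘ Spec (CommRingCat.of k)) = X ↘ Spec (CommRingCat.of k))
  (hgen : r (genericPoint X) = genericPoint (CohB1.ProjSpace 1 k))

/-- The map of function fields. -/
def pullFF (r : X ⟶ (CohB1.ProjSpace 1 k)) (hgen : r (genericPoint X) = genericPoint (CohB1.ProjSpace 1 k)) : (CohB1.ProjSpace 1 k).functionField →+* X.functionField :=
  ((CohB1.ProjSpace 1 k).presheaf.stalkSpecializes (specializes_of_eq hgen) ≫ r.stalkMap (genericPoint X)).hom

include hr in
theorem pullFF_algebraMap (c : k) :
    pullFF r hgen (algebraMap k (CohB1.ProjSpace 1 k).functionField c) = algebraMap k X.functionField c := by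
  show r.stalkMap (genericPoint X) ((CohB1.ProjSpace 1 k).presheaf.stalkSpecializes (specializes_of_eq hgen)
    ((CohB1.ProjSpace 1 k).presheaf.germ ⊤ (genericPoint (CohB1.ProjSpace 1 k)) trivial _)) = _
  rw [TopCat.Presheaf.germ_stalkSpecializes_apply, Scheme.Hom.germ_stalkMap_apply]
  refine congrArg (X.presheaf.germ ⊤ (genericPoint X) trivial) ?_
  show (((CohB1.ProjSpace 1 k) ↘ Spec (CommRingCat.of k)).appTop ≫ r.appTop) _ = _
  rw [← Scheme.Hom.comp_appTop, hr]
  rfl

include hr in
/-- The image of the function field of the line. -/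
theorem map_pullFF (z : (CohB1.ProjSpace 1 k).functionField) :
    pullFF r hgen z ∈
      IntermediateField.adjoin k ({pullFF r hgen (coord (genericPoint_mem_stdOpen (k := k) 0))} : Set X.functionField) := by
  let φ : (CohB1.ProjSpace 1 k).functionField →ₐ[k] X.functionField :=
    { pullFF r hgen with commutes' := pullFF_algebraMap r hr hgen }
  have h : φ z ∈ IntermediateField.map φ
      (IntermediateField.adjoin k ({coord (genericPoint_mem_stdOpen (k := k) 0)} : Set (CohB1.ProjSpace 1 k).functionField)) :=
    ⟨z, by rw [adjoin_coord_eq_top]; trivial, rfl⟩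
  rw [IntermediateField.adjoin_map, Set.image_singleton] at h
  exact h

include hr in
/-- A cover of degree `d` makes the function field an extension of degree `d` of `k(t)`. -/
theorem exists_coordinate (hres : r.residueDegree (genericPoint X) = 2) :
    ∃ t : X.functionField, Module.finrank (IntermediateField.adjoin k ({t} : Set X.functionField)) X.functionField = 2 ∧
      ((letI := (r.residueFieldMap (genericPoint X)).hom.toAlgebra
        Algebra.IsSeparable ((CohB1.ProjSpace 1 k).residueField (r (genericPoint X))) (X.residueField (genericPoint X))) →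
        Algebra.IsSeparable (IntermediateField.adjoin k ({t} : Set X.functionField)) X.functionField) ∧
      t = pullFF r hgen (coord (genericPoint_mem_stdOpen (k := k) 0)) := by
  let t := pullFF r hgen (coord (genericPoint_mem_stdOpen (k := k) 0))
  let F := IntermediateField.adjoin k ({t} : Set X.functionField)
  letI := (GeomRedFieldLib.isField_stalk_generic (Y := X) (y := genericPoint X) rfl).toField
  have hY : IsField ((CohB1.ProjSpace 1 k).presheaf.stalk (r (genericPoint X))) := GeomRedFieldLib.isField_stalk_generic hgen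
  letI := hY.toField
  let i : (CohB1.ProjSpace 1 k).functionField ≃+* (CohB1.ProjSpace 1 k).residueField (r (genericPoint X)) :=
    RingEquiv.ofBijective (((CohB1.ProjSpace 1 k).residue _).hom.comp ((CohB1.ProjSpace 1 k).presheaf.stalkSpecializes (specializes_of_eq hgen)).hom)
      ⟨RingHom.injective _, ((CohB1.ProjSpace 1 k).residue_surjective _).comp (fun z => ⟨(CohB1.ProjSpace 1 k).presheaf.stalkSpecializes
        (specializes_of_eq hgen.symm) z, by
          rw [← ConcreteCategory.comp_apply, TopCat.Presheaf.stalkSpecializes_comp, TopCat.Presheaf.stalkSpecializes_refl]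
          rfl⟩)⟩
  let j : X.functionField ≃+* X.residueField (genericPoint X) :=
    RingEquiv.ofBijective (X.residue _).hom ⟨RingHom.injective _, X.residue_surjective _⟩
  let φ : (CohB1.ProjSpace 1 k).functionField →ₐ[k] X.functionField :=
    { pullFF r hgen with commutes' := pullFF_algebraMap r hr hgen }
  have hsurj : ∀ w : F, ∃ z, pullFF r hgen z = w.1 := fun w => by
    have h : w.1 ∈ φ.fieldRange := by
      refine (IntermediateField.adjoin_simple_le_iff.mpr ?_) w.2
      exact ⟨coord (genericPoint_mem_stdOpen (k := k) 0), rfl⟩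
    exact h
  let i' : (CohB1.ProjSpace 1 k).functionField ≃+* F := RingEquiv.ofBijective
    ((pullFF r hgen).codRestrict F.toSubfield.toSubring fun z => map_pullFF r hr hgen z)
    ⟨fun a b h => (pullFF r hgen).injective (congrArg Subtype.val h), fun w => by
      obtain ⟨z, hz⟩ := hsurj w
      exact ⟨z, Subtype.ext hz⟩⟩
  letI := (r.residueFieldMap (genericPoint X)).hom.toAlgebra
  have he : (algebraMap ((CohB1.ProjSpace 1 k).residueField (r (genericPoint X))) (X.residueField (genericPoint X))).comp
      ((i'.symm.trans i : F ≃+* _) : F →+* _) = (j : X.functionField →+* _).comp (algebraMap F X.functionField) := by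
    refine RingHom.ext fun w => ?_
    obtain ⟨z, rfl⟩ := i'.surjective w
    show algebraMap _ _ (i (i'.symm (i' z))) = j (pullFF r hgen z)
    rw [RingEquiv.symm_apply_apply]
    exact congrArg (fun g : (CohB1.ProjSpace 1 k).presheaf.stalk (r (genericPoint X)) ⟶ X.residueField (genericPoint X) =>
      g ((CohB1.ProjSpace 1 k).presheaf.stalkSpecializes (specializes_of_eq hgen) z)) (Scheme.residue_residueFieldMap r (genericPoint X))
  refine ⟨t, ?_, fun hsep => ?_, rfl⟩
  · exact (Algebra.finrank_eq_of_equiv_equiv (i'.symm.trans i) j he).trans hres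
  · exact (Algebra.IsSeparable.iff_of_equiv_equiv (i'.symm.trans i) j he).mpr hsep

end Genus2Lib
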